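import Mathlib
import Cfsg.Agent.Core.KegelWielandt
import Cfsg.Prelude.Def_HallClasses

/-!
Supplements that are π-groups, and control of the fusion of π-elements in π-homogeneous groups whose
π-subgroups all have conjugates inside one fixed π-subgroup.
-/

set_option autoImplicit false

namespace Cfsg.Agent.DPiHomog

open Subgroup

universe u

section Supplement

variable {π : Set ℕ} {M : Type u} [Group M] [Finite M]

theorem pi_mono {A B : Subgroup M} (h : A ≤ B) (hB : Cfsg.IsPiSubgroup π B) :
    Cfsg.IsPiSubgroup π A :=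
  fun q hq hd => hB q hq (hd.trans (card_dvd_of_le h))

theorem pi_sup {A B : Subgroup M} (h : B ≤ normalizer (A : Set M)) (hA : Cfsg.IsPiSubgroup π A)
    (hB : Cfsg.IsPiSubgroup π B) : Cfsg.IsPiSubgroup π (A ⊔ B : Subgroup M) := by
  intro q hq hd
  rcases (Nat.Prime.dvd_mul hq).1 (hd.trans (Core.card_sup_dvd_of_le_normalizer h)) with h1 | h1
  · exact hA q hq h1
  · exact hB q hq h1

theorem pi_of_pGroup {p : ℕ} (hp : p.Prime) (hpπ : p ∈ π) {A : Subgroup M} (hA : IsPGroup p A) :
    Cfsg.IsPiSubgroup π A := by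
  intro q hq hd
  haveI := Fact.mk hp
  obtain ⟨n, hn⟩ := hA.exists_card_eq
  rw [hn] at hd
  rwa [(Nat.prime_dvd_prime_iff_eq hq hp).1 (hq.dvd_of_dvd_pow hd)]

/-- A supplement of a normal subgroup that is minimal inside a given subgroup only involves the primes of
the index. -/
theorem exists_pi_supplement (C : Subgroup M) [C.Normal]
    (hidx : ∀ q : ℕ, q.Prime → q ∣ C.index → q ∈ π) (N : Subgroup M) (hN : N ⊔ C = ⊤) :
    ∃ L : Subgroup M, L ≤ N ∧ L ⊔ C = ⊤ ∧ Cfsg.IsPiSubgroup π L := by
  obtain ⟨L, hLN, hmin⟩ :=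
    Finite.exists_le_minimal (p := fun L : Subgroup M => L ⊔ C = ⊤) (a := N) hN
  refine ⟨L, hLN, hmin.1, fun q hq hd => ?_⟩
  by_contra hqπ
  haveI := Fact.mk hq
  set D := C.subgroupOf L with hD
  have hDF : D ≤ frattini L := by
    refine le_iInf₂ fun Y hY => ?_
    by_contra hle
    have h1 : Y ⊔ D = ⊤ := hY.2 _ (lt_of_le_of_ne le_sup_left fun e => hle (e.symm ▸ le_sup_right))
    have h2 : L ≤ Y.map L.subtype ⊔ C := by
      calc L = (⊤ : Subgroup L).map L.subtype := by
            rw [← MonoidHom.range_eq_map, Subgroup.range_subtype]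
        _ = Y.map L.subtype ⊔ D.map L.subtype := by rw [← Subgroup.map_sup, h1]
        _ ≤ Y.map L.subtype ⊔ C := sup_le_sup le_rfl (by
            rw [hD, subgroupOf_map_subtype]; exact inf_le_left)
    have h3 : Y.map L.subtype ⊔ C = ⊤ := top_le_iff.1 (hmin.1 ▸ sup_le h2 le_sup_right)
    refine hY.1 (eq_top_iff.2 fun x _ => ?_)
    have h4 := hmin.2 h3 (map_subtype_le Y) x.2
    obtain ⟨y, hy, e⟩ := Subgroup.mem_map.1 h4
    rwa [Subtype.ext e] at hy
  have hrel : C.relIndex L = C.index := by
    rw [← relIndex_sup_right (H := L) (K := C), hmin.1, relIndex_top_right]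
  obtain ⟨Q⟩ : Nonempty (Sylow q L) := inferInstance
  have hQD : (Q : Subgroup L) ≤ D := by
    rw [← relIndex_eq_one]
    by_contra hne
    obtain ⟨r, hr, hrd⟩ := Nat.exists_prime_and_dvd hne
    obtain ⟨n, hn⟩ := Q.2.exists_card_eq
    have h1 := hrd.trans (relIndex_dvd_card D (Q : Subgroup L))
    rw [hn] at h1
    have hrq : r = q := (Nat.prime_dvd_prime_iff_eq hr hq).1 (hr.dvd_of_dvd_pow h1)
    subst hrq
    have h2 : D.relIndex (Q : Subgroup L) ∣ D.index := relIndex_dvd_index_of_normal D _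
    exact hqπ (hidx r hr (hrel ▸ hrd.trans h2))
  have hQΦ : (Q : Subgroup L) ≤ frattini L := hQD.trans hDF
  have hQn : (Q : Subgroup L).Normal := by
    have h := Sylow.normalizer_sup_eq_top (Q.subtype hQΦ)
    rw [Sylow.coe_subtype, subgroupOf_map_subtype, inf_eq_left.2 hQΦ] at h
    exact normalizer_eq_top_iff.1 (frattini_nongenerating h)
  have hcop : Nat.Coprime (Nat.card (Q : Subgroup L)) (Q : Subgroup L).index := Q.card_coprime_index
  obtain ⟨Y, hY⟩ := exists_right_complement'_of_coprime hcop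
  have hYtop : Y = ⊤ := frattini_nongenerating
    (top_le_iff.1 (hY.sup_eq_top ▸ sup_le (hQΦ.trans le_sup_right) le_sup_left))
  have hQbot : (Q : Subgroup L) = ⊥ := by
    have := hY.disjoint
    rw [hYtop, disjoint_top] at this
    exact this
  have := Q.dvd_card_of_dvd_card hd
  rw [hQbot, card_bot] at this
  exact hq.ne_one (Nat.dvd_one.1 this)

/-- A π-subgroup covering `M ⧸ C` that contains a Sylow `p`-subgroup of `M` and a given normal
`p`-subgroup centralised by `C`. -/
theorem exists_pi_cover (C : Subgroup M) [C.Normal] (hidx : ∀ q : ℕ, q.Prime → q ∣ C.index → q ∈ π)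
    {p : ℕ} (hp : p.Prime) (hpπ : p ∈ π) (X : Subgroup M) [X.Normal] (hX : IsPGroup p X)
    (hXC : C ≤ centralizer (X : Set M)) :
    ∃ W : Subgroup M, Cfsg.IsPiSubgroup π W ∧ X ≤ W ∧ W ⊔ C = ⊤ ∧ ¬ p ∣ W.index := by
  haveI := Fact.mk hp
  obtain ⟨S⟩ : Nonempty (Sylow p C) := inferInstance
  set Sm := (S : Subgroup C).map C.subtype with hSm
  have hN : normalizer (Sm : Set M) ⊔ C = ⊤ := Sylow.normalizer_sup_eq_top S
  obtain ⟨L, hLN, hLC, hLπ⟩ := exists_pi_supplement C hidx _ hN
  have hSmC : Sm ≤ C := map_subtype_le _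
  have hXN : X ≤ normalizer (Sm : Set M) :=
    (Subgroup.le_centralizer_iff.1 (hSmC.trans hXC)).trans
      (Subgroup.centralizer_le_normalizer _)
  have hSπ : Cfsg.IsPiSubgroup π Sm := pi_of_pGroup hp hpπ (S.2.map C.subtype)
  have hLXπ : Cfsg.IsPiSubgroup π (X ⊔ L : Subgroup M) :=
    pi_sup (by rw [normalizer_eq_top_iff.2 (inferInstance : X.Normal)]; exact le_top)
      (pi_of_pGroup hp hpπ hX) hLπ
  refine ⟨Sm ⊔ (X ⊔ L), pi_sup (sup_le hXN hLN) hSπ hLXπ, le_sup_left.trans le_sup_right,
    top_le_iff.1 (hLC ▸ sup_le ((le_sup_right.trans le_sup_right).trans le_sup_left) le_sup_right),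
    fun hd => ?_⟩
  set W := Sm ⊔ (X ⊔ L) with hW
  have hWC : W ⊔ C = ⊤ :=
    top_le_iff.1 (hLC ▸ sup_le ((le_sup_right.trans le_sup_right).trans le_sup_left) le_sup_right)
  have h1 : W.index = W.relIndex C := by
    have e1 := relIndex_mul_relIndex (W ⊓ C) W ⊤ inf_le_left le_top
    have e2 := relIndex_mul_relIndex (W ⊓ C) C ⊤ inf_le_right le_top
    simp only [relIndex_top_right, inf_relIndex_left, inf_relIndex_right] at e1 e2
    have e3 : C.relIndex W = C.index := by
      rw [← relIndex_sup_right (H := W) (K := C), hWC, relIndex_top_right]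
    rw [e3, ← e2, mul_comm (W.relIndex C)] at e1
    exact Nat.eq_of_mul_eq_mul_left (Nat.pos_of_ne_zero index_ne_zero_of_finite) e1
  have h2 : Sm.relIndex C = (S : Subgroup C).index := by
    rw [hSm, Subgroup.relIndex, subgroupOf, comap_map_eq_self_of_injective C.subtype_injective]
  have h3 : W.relIndex C ∣ Sm.relIndex C := by
    rw [← inf_relIndex_right W C]
    exact relIndex_dvd_of_le_left _ (le_inf le_sup_left hSmC)
  exact S.not_dvd_index (h2 ▸ (h1 ▸ hd).trans h3)

end Supplement

section Control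

variable {π : Set ℕ}

/-- The conjugate subgroup. -/
def cj {G : Type u} [Group G] (g : G) (H : Subgroup G) : Subgroup G :=
  H.map (MulAut.conj g).toMonoidHom

theorem mem_cj {G : Type u} [Group G] {g x : G} {H : Subgroup G} :
    x ∈ cj g H ↔ g⁻¹ * x * g ∈ H := by
  constructor
  · rintro ⟨y, hy, rfl⟩
    simpa [mul_assoc] using hy
  · exact fun h => ⟨_, h, by simp [mul_assoc]⟩

theorem cj_cj {G : Type u} [Group G] (g h : G) (H : Subgroup G) : cj g (cj h H) = cj (g * h) H := by
  ext x; simp [mem_cj, mul_assoc]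

theorem cj_one {G : Type u} [Group G] (H : Subgroup G) : cj (1 : G) H = H := by
  ext x; simp [mem_cj]

theorem cj_mono {G : Type u} [Group G] (g : G) {A B : Subgroup G} (h : A ≤ B) : cj g A ≤ cj g B :=
  map_mono h

theorem cj_self {G : Type u} [Group G] {g : G} {H : Subgroup G}
    (h : g ∈ normalizer (H : Set G)) : cj g H = H := by
  ext x
  rw [mem_cj]
  exact (Subgroup.mem_normalizer_iff''.1 h x).symm

theorem mem_normalizer_of_cj {G : Type u} [Group G] {g : G} {H : Subgroup G}
    (h : cj g H = H) : g ∈ normalizer (H : Set G) := by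
  rw [Subgroup.mem_normalizer_iff'']
  intro x
  rw [← mem_cj, h]

/-- The hypothesis of the induction: `H` is a π-subgroup containing a conjugate of each π-subgroup, and
every nontrivial π-subgroup has a π-group as automiser. -/
structure Good (π : Set ℕ) {G : Type u} [Group G] (H : Subgroup G) : Prop where
  isPi : Cfsg.IsPiSubgroup π H
  dom : ∀ Z : Subgroup G, Cfsg.IsPiSubgroup π Z → ∃ g : G, Z ≤ cj g H
  hom : ∀ Y : Subgroup G, Y ≠ ⊥ → Cfsg.IsPiSubgroup π Y →
    ∀ p : ℕ, p.Prime → p ∣ (centralizer (Y : Set G)).relIndex (normalizer (Y : Set G)) → p ∈ π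

theorem le_normalizer_centralizer {G : Type u} [Group G] (X : Subgroup G) :
    normalizer (X : Set G) ≤ normalizer ((Subgroup.centralizer (X : Set G) : Subgroup G) : Set G) := by
  intro n hn
  rw [Subgroup.mem_normalizer_iff]
  refine fun c => ⟨fun hc => mem_centralizer_iff.2 fun x hx => ?_,
    fun hc => mem_centralizer_iff.2 fun x hx => ?_⟩
  · have h1 := mem_centralizer_iff.1 hc (n⁻¹ * x * n) ((Subgroup.mem_normalizer_iff''.1 hn x).1 hx)
    calc x * (n * c * n⁻¹) = n * (n⁻¹ * x * n * c) * n⁻¹ := by group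
      _ = n * (c * (n⁻¹ * x * n)) * n⁻¹ := by rw [h1]
      _ = n * c * n⁻¹ * x := by group
  · have h1 := mem_centralizer_iff.1 hc (n * x * n⁻¹) ((Subgroup.mem_normalizer_iff.1 hn x).1 hx)
    calc x * c = n⁻¹ * (n * x * n⁻¹ * (n * c * n⁻¹)) * n := by group
      _ = n⁻¹ * (n * c * n⁻¹ * (n * x * n⁻¹)) * n := by rw [h1]
      _ = c * x := by group

variable {G : Type u} [Group G] [Finite G] {H : Subgroup G}

theorem Good.cover (hG : Good π H) {p : ℕ} (hp : p.Prime) (hpπ : p ∈ π) {X : Subgroup G}
    (hX : IsPGroup p X) (hX1 : X ≠ ⊥) :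
    ∃ W : Subgroup G, Cfsg.IsPiSubgroup π W ∧ X ≤ W ∧
      (∀ m ∈ normalizer (X : Set G), ∃ c ∈ centralizer (X : Set G), ∃ w ∈ W, m = c * w) ∧
      ∃ R : Subgroup G, R ≤ W ∧ IsPGroup p R ∧
        ∀ A : Subgroup G, IsPGroup p A → A ≤ normalizer (X : Set G) →
          ∃ m ∈ normalizer (X : Set G), A ≤ cj m R := by
  haveI := Fact.mk hp
  set N := normalizer (X : Set G) with hN
  set C := centralizer (X : Set G) with hC
  have hCN : C ≤ N := Subgroup.centralizer_le_normalizer _
  haveI : (C.subgroupOf N).Normal := by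
    rw [normal_subgroupOf_iff_le_normalizer hCN]
    exact le_normalizer_centralizer X
  haveI : (X.subgroupOf N).Normal := normal_in_normalizer
  have hidx : ∀ q : ℕ, q.Prime → q ∣ (C.subgroupOf N).index → q ∈ π :=
    fun q hq hd => hG.hom X hX1 (pi_of_pGroup hp hpπ hX) q hq hd
  obtain ⟨W, hWπ, hXW, hWC, hWp⟩ := exists_pi_cover (C.subgroupOf N) hidx hp hpπ (X.subgroupOf N)
    (hX.comap_subtype)
    (fun c hc => mem_centralizer_iff.2 fun x hx => Subtype.ext (mem_centralizer_iff.1 hc _ hx))
  refine ⟨W.map N.subtype, fun q hq hd => hWπ q hq ?_,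
    fun x hx => ⟨⟨x, Subgroup.le_normalizer hx⟩, hXW hx, rfl⟩, fun m hm => ?_, ?_⟩
  · rwa [Subgroup.card_map_of_injective N.subtype_injective] at hd
  · have h1 : (⟨m, hm⟩ : N) ∈ (C.subgroupOf N) ⊔ W := by rw [sup_comm, hWC]; exact mem_top _
    obtain ⟨c, hc, w, hw, e⟩ := mem_sup_of_normal_left.1 h1
    exact ⟨c, hc, w, ⟨w, hw, rfl⟩, (congrArg Subtype.val e).symm⟩
  · obtain ⟨R⟩ : Nonempty (Sylow p W) := inferInstance
    have hR : IsPGroup p ((R : Subgroup W).map W.subtype) := R.2.map _
    have hRidx : ¬ p ∣ ((R : Subgroup W).map W.subtype).index := by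
      rw [index_map_subtype]
      exact fun hd => ((Nat.Prime.dvd_mul hp).1 hd).elim R.not_dvd_index hWp
    set R' : Sylow p N := hR.toSylow hRidx with hR'
    refine ⟨((R : Subgroup W).map W.subtype).map N.subtype, map_mono (map_subtype_le _), hR.map _,
      fun A hA hAN => ?_⟩
    obtain ⟨P, hP⟩ := (hA.comap_subtype (K := N)).exists_le_sylow
    obtain ⟨m, hm⟩ := MulAction.exists_smul_eq N R' P
    refine ⟨m, m.2, fun a ha => ?_⟩
    have h1 : (⟨a, hAN ha⟩ : N) ∈ (P : Subgroup N) := hP ha
    rw [← hm, Sylow.coe_subgroup_smul] at h1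
    obtain ⟨r, hr, e⟩ := Subgroup.mem_map.1 h1
    refine mem_cj.2 ⟨r, hr, ?_⟩
    have e' : (m : G) * r * (m : G)⁻¹ = a := congrArg Subtype.val e
    rw [← e']
    show (r : G) = _
    group

/-- Conjugates of `H` through a `p`-subgroup are conjugate under its centraliser. -/
theorem Good.cj_conj_of_pGroup (hG : Good π H) {p : ℕ} (hp : p.Prime) (hpπ : p ∈ π) :
    ∀ (n : ℕ) (X : Subgroup G), IsPGroup p X → Nat.card G - Nat.card X = n → ∀ a b : G,
      X ≤ cj a H → X ≤ cj b H → ∃ c ∈ centralizer (X : Set G), cj b H = cj (c * a) H := by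
  intro n
  induction n using Nat.strong_induction_on with
  | _ n ih =>
    intro X hX hn
    haveI := Fact.mk hp
    by_cases hX1 : X = ⊥
    · intro a b _ _
      refine ⟨b * a⁻¹, ?_, by rw [inv_mul_cancel_right]⟩
      subst hX1
      rw [mem_centralizer_iff]
      intro x hx
      rw [mem_bot.1 hx]; group
    obtain ⟨W, hWπ, hXW, hMW, R, hRW, hR, hRmax⟩ := hG.cover hp hpπ hX hX1
    obtain ⟨g₀, hg₀⟩ := hG.dom W hWπ
    suffices key : ∀ b : G, X ≤ cj b H → ∃ c ∈ centralizer (X : Set G), cj b H = cj (c * g₀) H by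
      intro a b ha hb
      obtain ⟨c₁, hc₁, e₁⟩ := key a ha
      obtain ⟨c₂, hc₂, e₂⟩ := key b hb
      refine ⟨c₂ * c₁⁻¹, mul_mem hc₂ (inv_mem hc₁), ?_⟩
      rw [← cj_cj _ a, e₁, cj_cj, e₂]
      group
    intro b hb
    obtain ⟨P, hP⟩ := (hX.comap_subtype (K := cj b H)).exists_le_sylow
    set P₁ := (P : Subgroup (cj b H)).map (cj b H).subtype with hP₁
    have hXP : X ≤ P₁ := fun x hx => ⟨⟨x, hb hx⟩, hP hx, rfl⟩
    by_cases hlt : X < P₁ ⊓ normalizer (X : Set G)
    · set A := P₁ ⊓ normalizer (X : Set G) with hA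
      have hAp : IsPGroup p A := (P.2.map _).to_le inf_le_left
      obtain ⟨m, hm, hAm⟩ := hRmax A hAp inf_le_right
      obtain ⟨c, hc, w, hw, rfl⟩ := hMW m hm
      have hAc : A ≤ cj (c * g₀) H := by
        refine hAm.trans ?_
        rw [← cj_cj c g₀, ← cj_cj c w]
        refine cj_mono c fun y hy => ?_
        have h1 := mem_cj.1 hy
        have h2 : y = w * (w⁻¹ * y * w) * w⁻¹ := by group
        rw [h2]
        exact mul_mem (mul_mem (hg₀ hw) (hg₀ (hRW h1))) (inv_mem (hg₀ hw))
      have hAb : A ≤ cj b H := inf_le_left.trans (map_subtype_le _)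
      have hcard : Nat.card X < Nat.card A := by
        rcases (card_le_of_le hlt.le).lt_or_eq with h | h
        · exact h
        · exact absurd (eq_of_le_of_card_ge hlt.le h.ge) hlt.ne
      have hAG : Nat.card A ≤ Nat.card G := Subgroup.card_le_card_group A
      obtain ⟨c', hc', e'⟩ := ih _ (by omega) A hAp rfl (c * g₀) b hAc hAb
      exact ⟨c' * c, mul_mem (centralizer_le hlt.le hc') hc, by rw [e', mul_assoc]⟩
    · have hXeq : X = P₁ := by
        by_contra hne
        have hXlt : X < P₁ := lt_of_le_of_ne hXP hne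
        haveI : Group.IsNilpotent P₁ := (P.2.map _).isNilpotent
        have h1 : X.subgroupOf P₁ < ⊤ := lt_top_iff_ne_top.2 fun e =>
          hne (le_antisymm hXP (subgroupOf_eq_top.1 e))
        have h2 := Group.normalizerCondition_of_isNilpotent (G := P₁) _ h1
        obtain ⟨y, hy, hy'⟩ := SetLike.exists_of_lt h2
        refine hlt (lt_of_le_of_ne (le_inf hXP Subgroup.le_normalizer) fun e => hy' ?_)
        have h3 : (y : G) ∈ P₁ ⊓ normalizer (X : Set G) := by
          refine ⟨y.2, Subgroup.mem_normalizer_iff.2 fun x => ⟨fun hx => ?_, fun hx => ?_⟩⟩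
          · have := (Subgroup.mem_normalizer_iff.1 hy ⟨x, hXP hx⟩).1 hx
            simpa [mem_subgroupOf] using this
          · have hxP : x ∈ P₁ := by
              have := mul_mem (mul_mem (inv_mem y.2) (hXP hx)) y.2
              simpa [mul_assoc] using this
            exact (Subgroup.mem_normalizer_iff.1 hy ⟨x, hxP⟩).2 (by simpa [mem_subgroupOf] using hx)
        rw [← e] at h3
        exact h3
      have hXp : ∀ k : G, X ≤ cj k H → ∀ A : Subgroup G, A ≤ cj k H → IsPGroup p A →
          ∃ h ∈ cj k H, A ≤ cj h X := by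
        intro k hk A hA hAp
        obtain ⟨Q, hQ⟩ := (hAp.comap_subtype (K := cj k H)).exists_le_sylow
        have hXpg : IsPGroup p (X.subgroupOf (cj k H)) := hX.comap_subtype
        have hidx : ¬ p ∣ (X.subgroupOf (cj k H)).index := by
          have e1 : Nat.card (cj k H) = Nat.card (cj b H) := by
            rw [cj, cj, card_map_of_injective (MulAut.conj k).injective,
              card_map_of_injective (MulAut.conj b).injective]
          have e2 : Nat.card (X.subgroupOf (cj k H)) = Nat.card (P : Subgroup (cj b H)) := by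
            rw [Nat.card_congr (subgroupOfEquivOfLe hk).toEquiv, hXeq, hP₁,
              card_map_of_injective (cj b H).subtype_injective]
          have e3 : (X.subgroupOf (cj k H)).index = (P : Subgroup (cj b H)).index := by
            have h1 := (X.subgroupOf (cj k H)).card_mul_index
            rw [e1, ← (P : Subgroup (cj b H)).card_mul_index, e2] at h1
            exact Nat.eq_of_mul_eq_mul_left Nat.card_pos h1
          rw [e3]
          exact P.not_dvd_index
        obtain ⟨h, hh⟩ := MulAction.exists_smul_eq (cj k H) (hXpg.toSylow hidx) Q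
        refine ⟨h, h.2, fun a ha => ?_⟩
        have h1 : (⟨a, hA ha⟩ : cj k H) ∈ (Q : Subgroup (cj k H)) := hQ ha
        rw [← hh, Sylow.coe_subgroup_smul] at h1
        obtain ⟨x, hx, e⟩ := Subgroup.mem_map.1 h1
        refine mem_cj.2 ?_
        have e' : (h : G) * x * (h : G)⁻¹ = a := congrArg Subtype.val e
        rw [← e']
        have : (h : G)⁻¹ * ((h : G) * x * (h : G)⁻¹) * h = x := by group
        rw [this]; exact hx
      have hX0 : X ≤ cj g₀ H := hXW.trans hg₀
      set g := b * g₀⁻¹ with hg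
      have hX' : cj g⁻¹ X ≤ cj g₀ H := by
        refine (cj_mono _ hb).trans (le_of_eq ?_)
        rw [cj_cj, hg]; group
      obtain ⟨h, hh, hle⟩ := hXp g₀ hX0 _ hX' (hX.map _)
      have heq : cj g⁻¹ X = cj h X := eq_of_le_of_card_ge hle (by
        rw [cj, cj, card_map_of_injective (MulAut.conj h).injective,
          card_map_of_injective (MulAut.conj g⁻¹).injective])
      have hnN : g * h ∈ normalizer (X : Set G) := by
        refine mem_normalizer_of_cj ?_
        rw [← cj_cj, ← heq, cj_cj, mul_inv_cancel, cj_one]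
      obtain ⟨c, hc, w, hw, e⟩ := hMW _ hnN
      refine ⟨c, hc, ?_⟩
      have hh' : cj h (cj g₀ H) = cj g₀ H := cj_self (Subgroup.le_normalizer hh)
      have hw' : cj w (cj g₀ H) = cj g₀ H := cj_self (Subgroup.le_normalizer (hg₀ hw))
      calc cj b H = cj g (cj h (cj g₀ H)) := by rw [hh', cj_cj, hg, inv_mul_cancel_right]
        _ = cj (g * h) (cj g₀ H) := cj_cj _ _ _
        _ = cj c (cj w (cj g₀ H)) := by rw [e, cj_cj c w]
        _ = cj (c * g₀) H := by rw [hw', cj_cj]

/-- The normaliser of `H` is `H` times its centraliser. -/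
theorem Good.normalizer_le (hG : Good π H) :
    normalizer (H : Set G) ≤ H ⊔ centralizer (H : Set G) := by
  by_cases h1 : H = ⊥
  · subst h1
    intro x _
    refine mem_sup_right (mem_centralizer_iff.2 fun y hy => ?_)
    rw [mem_bot.1 hy]; group
  rw [← relIndex_eq_one]
  by_contra hne
  obtain ⟨q, hq, hqd⟩ := Nat.exists_prime_and_dvd hne
  haveI := Fact.mk hq
  have hqπ : q ∈ π := hG.hom H h1 hG.isPi q hq (hqd.trans (relIndex_dvd_of_le_left _ le_sup_right))
  have h2 : q ∣ H.index :=
    (hqd.trans (relIndex_dvd_of_le_left _ le_sup_left)).trans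
      ⟨_, (relIndex_mul_index Subgroup.le_normalizer).symm⟩
  obtain ⟨P⟩ : Nonempty (Sylow q G) := inferInstance
  obtain ⟨g, hg⟩ := hG.dom P (pi_of_pGroup hq hqπ P.2)
  have h3 : (cj g H).index = H.index := index_map_of_bijective (MulAut.conj g).bijective H
  exact P.not_dvd_index ((h3 ▸ h2).trans (index_dvd_of_le hg))

theorem Good.centralizer (hG : Good π H) {p : ℕ} (hp : p.Prime) (hpπ : p ∈ π) {X : Subgroup G}
    (hX : IsPGroup p X) (hXH : X ≤ H) :
    Good π (H.subgroupOf (Subgroup.centralizer (X : Set G))) := by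
  set C := Subgroup.centralizer (X : Set G) with hC
  refine ⟨?_, fun Z hZ => ?_, fun Y hY hYπ q hq hd => ?_⟩
  · intro q hq hd
    rw [← card_map_of_injective C.subtype_injective] at hd
    exact hG.isPi q hq (hd.trans (card_dvd_of_le (by rw [subgroupOf_map_subtype]; exact inf_le_left)))
  · set Z' := Z.map C.subtype with hZ'
    have hZ'π : Cfsg.IsPiSubgroup π Z' := fun q hq hd => hZ q hq (by
      rwa [hZ', card_map_of_injective C.subtype_injective] at hd)
    have hnorm : Z' ≤ normalizer (X : Set G) :=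
      (map_subtype_le _).trans (Subgroup.centralizer_le_normalizer _)
    obtain ⟨g, hg⟩ := hG.dom _ (pi_sup hnorm (pi_of_pGroup hp hpπ hX) hZ'π)
    obtain ⟨c, hc, e⟩ := hG.cj_conj_of_pGroup hp hpπ _ X hX rfl 1 g (by rwa [cj_one])
      (le_sup_left.trans hg)
    refine ⟨⟨c, hc⟩, fun z hz => ?_⟩
    have h1 : (z : G) ∈ cj g H := hg (mem_sup_right ⟨z, hz, rfl⟩)
    rw [e, mul_one, mem_cj] at h1
    rw [mem_cj]
    exact h1
  · set Y' := Y.map C.subtype with hY'
    have hY'1 : Y' ≠ ⊥ := by
      rwa [hY', Ne, map_eq_bot_iff_of_injective _ C.subtype_injective]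
    have hY'π : Cfsg.IsPiSubgroup π Y' := fun r hr hrd => hYπ r hr (by
      rwa [hY', card_map_of_injective C.subtype_injective] at hrd)
    refine hG.hom Y' hY'1 hY'π q hq (hd.trans ?_)
    have e1 : (Subgroup.centralizer (Y : Set C)).map C.subtype =
        Subgroup.centralizer (Y' : Set G) ⊓ C := by
      ext x
      constructor
      · rintro ⟨y, hy, rfl⟩
        refine ⟨mem_centralizer_iff.2 ?_, y.2⟩
        rintro _ ⟨z, hz, rfl⟩
        exact congrArg Subtype.val (mem_centralizer_iff.1 hy z hz)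
      · rintro ⟨hx, hxC⟩
        exact ⟨⟨x, hxC⟩, mem_centralizer_iff.2 fun z hz => Subtype.ext
          (mem_centralizer_iff.1 hx _ ⟨z, hz, rfl⟩), rfl⟩
    have e2 : (normalizer (Y : Set C)).map C.subtype ≤ normalizer (Y' : Set G) :=
      le_normalizer_map _
    rw [← relIndex_map_map_of_injective _ _ C.subtype_injective, e1]
    set K := (normalizer (Y : Set C)).map C.subtype with hK
    have hKC : K ≤ C := map_subtype_le _
    have e3 : (Subgroup.centralizer (Y' : Set G) ⊓ C).relIndex K =
        (Subgroup.centralizer (Y' : Set G)).relIndex K := by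
      rw [← inf_relIndex_right, inf_assoc, inf_eq_right.2 hKC, inf_relIndex_right]
    rw [e3]
    haveI : ((Subgroup.centralizer (Y' : Set G)).subgroupOf (normalizer (Y' : Set G))).Normal := by
      rw [normal_subgroupOf_iff_le_normalizer (Subgroup.centralizer_le_normalizer _)]
      exact le_normalizer_centralizer Y'
    rw [← relIndex_subgroupOf e2]
    exact relIndex_dvd_index_of_normal _ _

omit [Finite G] in
theorem commute_of_primes {x : G} (hx : IsOfFinOrder x) {y : G}
    (h : ∀ p : ℕ, p.Prime → p ∣ orderOf x →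
      Commute (x ^ (orderOf x / p ^ (orderOf x).factorization p)) y) : Commute x y := by
  have hn0 : orderOf x ≠ 0 := hx.orderOf_pos.ne'
  set n := orderOf x with hn
  set S : Subgroup G := Subgroup.centralizer ({y} : Set G)
  have hmem : ∀ p : ℕ, p.Prime → p ∣ n → x ^ (n / p ^ n.factorization p) ∈ S := fun p hp hd =>
    mem_centralizer_singleton_iff.2 (h p hp hd).eq
  have key : x ∈ S := by
    have hgcd : ∀ s : Finset ℕ, (∀ p ∈ s, p.Prime ∧ p ∣ n) →
        x ^ (s.gcd fun p => n / p ^ n.factorization p) ∈ S := by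
      intro s
      induction s using Finset.induction_on with
      | empty => intro _; simp
      | @insert a s _ ih =>
        intro hs
        rw [Finset.gcd_insert]
        have h1 := hmem a (hs a (Finset.mem_insert_self _ _)).1 (hs a (Finset.mem_insert_self _ _)).2
        have h2 := ih fun q hq => hs q (Finset.mem_insert_of_mem hq)
        have e : x ^ (GCDMonoid.gcd (n / a ^ n.factorization a)
            (s.gcd fun p => n / p ^ n.factorization p)) =
            (x ^ (n / a ^ n.factorization a)) ^ Nat.gcdA (n / a ^ n.factorization a)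
              (s.gcd fun p => n / p ^ n.factorization p) *
            (x ^ (s.gcd fun p => n / p ^ n.factorization p)) ^ Nat.gcdB (n / a ^ n.factorization a)
              (s.gcd fun p => n / p ^ n.factorization p) := by
          rw [← zpow_natCast, ← zpow_natCast, ← zpow_natCast, ← zpow_mul, ← zpow_mul, ← zpow_add]
          congr 1
          exact Nat.gcd_eq_gcd_ab _ _
        rw [e]
        exact mul_mem (S.zpow_mem h1 _) (S.zpow_mem h2 _)
    rcases eq_or_ne n 1 with h1 | h1
    · have hx1 : x = 1 := orderOf_eq_one_iff.1 (hn ▸ h1)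
      rw [hx1]; exact S.one_mem
    have h2 := hgcd n.primeFactors fun p hp =>
      ⟨Nat.prime_of_mem_primeFactors hp, Nat.dvd_of_mem_primeFactors hp⟩
    suffices e : (n.primeFactors.gcd fun p => n / p ^ n.factorization p) = 1 by
      rwa [e, pow_one] at h2
    by_contra hne
    obtain ⟨q, hq, hqd⟩ := Nat.exists_prime_and_dvd hne
    have hqn : q ∈ n.primeFactors := by
      obtain ⟨p, hp⟩ : n.primeFactors.Nonempty := Nat.nonempty_primeFactors.2 (by omega)
      exact Nat.mem_primeFactors.2 ⟨hq, (hqd.trans (Finset.gcd_dvd hp)).trans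
        (Nat.ordCompl_dvd n p), hn0⟩
    exact Nat.not_dvd_ordCompl hq hn0 (hqd.trans (Finset.gcd_dvd hqn))
  exact mem_centralizer_singleton_iff.1 key

end Control

/-- Two elements of `H` conjugate in `G` are conjugate in `H`. -/
theorem conj_in {π : Set ℕ} : ∀ (n : ℕ) (G : Type u) [Group G] [Finite G], Nat.card G = n →
    ∀ H : Subgroup G, Good π H → ∀ x ∈ H, ∀ y ∈ H, ∀ g : G, g * x * g⁻¹ = y →
      ∃ h ∈ H, h * x * h⁻¹ = y := by
  intro n
  induction n using Nat.strong_induction_on with
  | _ n ih =>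
    intro G _ _ hn H hG x hx y hy g hg
    by_cases hz : x ∈ center G
    · refine ⟨1, H.one_mem, ?_⟩
      rw [← hg, mul_assoc g, ← (mem_center_iff.1 hz g⁻¹)]
      simp
    obtain ⟨p, hp, hpd, hnz⟩ : ∃ p : ℕ, p.Prime ∧ p ∣ orderOf x ∧
        x ^ (orderOf x / p ^ (orderOf x).factorization p) ∉ center G := by
      by_contra hcon
      push Not at hcon
      refine hz (mem_center_iff.2 fun w => (commute_of_primes (isOfFinOrder_of_finite x)
        (y := w) fun p hp hd => (mem_center_iff.1 (hcon p hp hd) w).symm).eq.symm)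
    haveI := Fact.mk hp
    have hpπ : p ∈ π := hG.isPi p hp (hpd.trans (H.orderOf_dvd_natCard hx))
    set k := orderOf x / p ^ (orderOf x).factorization p with hk
    set z := y ^ k with hz'
    have hzx : g * x ^ k * g⁻¹ = z := by rw [hz', ← hg, conj_pow]
    set X := zpowers z with hX
    have hXp : IsPGroup p X := by
      refine IsPGroup.of_card (n := (orderOf x).factorization p) ?_
      rw [Nat.card_zpowers, ← hzx]
      show orderOf (MulAut.conj g (x ^ k)) = _
      rw [MulEquiv.orderOf_eq, hk,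
        orderOf_pow_orderOf_div (orderOf_pos x).ne' (Nat.ordProj_dvd _ _)]
    have hXH : X ≤ H := zpowers_le.2 (H.pow_mem hy k)
    have hXg : X ≤ cj g H := zpowers_le.2 (mem_cj.2 (by
      rw [← hzx, show g⁻¹ * (g * x ^ k * g⁻¹) * g = x ^ k by group]
      exact H.pow_mem hx k))
    obtain ⟨c, hc, e⟩ := hG.cj_conj_of_pGroup hp hpπ _ X hXp rfl 1 g (by rwa [cj_one]) hXg
    rw [mul_one] at e
    have hnN : c⁻¹ * g ∈ normalizer (H : Set G) := mem_normalizer_of_cj (by
      rw [← cj_cj, e, cj_cj, inv_mul_cancel, cj_one])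
    have hsup := hG.normalizer_le hnN
    rw [← SetLike.mem_coe, Subgroup.coe_mul_of_right_le_normalizer_left H _
      ((Subgroup.centralizer_le_normalizer _))] at hsup
    obtain ⟨h, hh, d, hd, ed⟩ := Set.mem_mul.1 hsup
    set x' := h * x * h⁻¹ with hx'
    have hx'H : x' ∈ H := mul_mem (mul_mem hh hx) (inv_mem hh)
    have hdx : d * x * d⁻¹ = x := by
      rw [← mem_centralizer_iff.1 hd x hx]; group
    have hyx : c * x' * c⁻¹ = y := by
      rw [← hg, hx', show g = c * (c⁻¹ * g) by group, ← ed]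
      conv_rhs => rw [show c * (h * d) * x * (c * (h * d))⁻¹ = c * (h * (d * x * d⁻¹) * h⁻¹) * c⁻¹ by
        group, hdx]
    set C := Subgroup.centralizer (X : Set G) with hC
    have hzc : c⁻¹ * z * c = z := by
      rw [mul_assoc, mem_centralizer_iff.1 hc z (mem_zpowers z)]; group
    have hyC : y ∈ C := by
      rw [hC, Subgroup.mem_centralizer_iff]
      intro w hw
      obtain ⟨i, rfl⟩ := mem_zpowers_iff.1 hw
      rw [hz']
      exact (((Commute.refl y).pow_left k).zpow_left i).eq
    have hx'C : x' ∈ C := by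
      have e1 : x' = c⁻¹ * y * c := by rw [← hyx]; group
      rw [e1]
      exact mul_mem (mul_mem (inv_mem hc) hyC) hc
    have hlt : Nat.card C < n := by
      rw [← hn]
      refine lt_of_le_of_ne (Subgroup.card_le_card_group C) fun e1 => hnz ?_
      have htop : C = ⊤ := eq_top_of_card_eq C e1
      have hzc' : z ∈ center G := mem_center_iff.2 fun w =>
        (mem_centralizer_iff.1 (show w ∈ C from htop ▸ mem_top w) z (mem_zpowers z)).symm
      have e2 : x ^ k = z := by
        have e3 : z * g = g * z := (mem_center_iff.1 hzc' g).symm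
        calc x ^ k = g⁻¹ * (g * x ^ k * g⁻¹) * g := by group
          _ = g⁻¹ * (z * g) := by rw [hzx, mul_assoc]
          _ = z := by rw [e3]; group
      exact e2 ▸ hzc'
    obtain ⟨h', hh', e'⟩ := ih _ hlt C rfl (H.subgroupOf C) (hG.centralizer hp hpπ hXp hXH)
      ⟨x', hx'C⟩ hx'H ⟨y, hyC⟩ hy ⟨c, hc⟩ (Subtype.ext hyx)
    refine ⟨h' * h, mul_mem hh' hh, ?_⟩
    have := congrArg Subtype.val e'
    simp only [Subgroup.coe_mul, Subgroup.coe_inv] at this
    rw [← this, hx']; group

end Cfsg.Agent.DPiHomog
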